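import Cfsg.Agent.PSUOrder57.Torus

/-!
Elements of order `q^(n/2) + (-1)^(n/2)` in `PSU_n(q)`.
-/

set_option autoImplicit false

namespace Cfsg.Agent.PSUOrder57

open Cfsg.Agent.KS58 Cfsg.Agent.KS58.SUDi Cfsg.Agent.NumberTheory

theorem sM_two_mul (m q : ℕ) : sM (2 * m) q = sM m q * (1 + (-(q : ℤ)) ^ m) := by
  rw [mul_comm 2 m, sM, geom_mul, Finset.sum_range_succ, Finset.sum_range_one, pow_zero, pow_one, ← sM]

theorem natAbs_factor {q : ℕ} (hq : 1 < q) (m : ℕ) :
    (1 + (-(q : ℤ)) ^ m).natAbs = if Even m then q ^ m + 1 else q ^ m - 1 := by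
  have h1 : 1 ≤ q ^ m := Nat.one_le_pow _ _ (by omega)
  rcases Nat.even_or_odd m with h | h
  · rw [if_pos h, h.neg_pow, ← Nat.cast_pow]; omega
  · rw [if_neg (Nat.not_even_iff_odd.2 h), h.neg_pow, ← Nat.cast_pow]; omega

theorem zU_dvd_half (m q : ℕ) : zU (2 * m) q ∣ (sM m q).natAbs ↔ zU (2 * m) q ∣ m := by
  set d := zU (2 * m) q
  have h1 : (d : ℤ) ∣ (q : ℤ) + 1 := by exact_mod_cast Nat.gcd_dvd_right (2 * m) (q + 1)
  have h3 : (d : ℤ) ∣ (m : ℤ) - sM m q := h1.trans (Int.modEq_iff_dvd.mp (geom_modEq (neg_q_modEq q) m))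
  rw [← Int.natCast_dvd, ← Int.natCast_dvd_natCast (m := d) (n := m)]
  exact (dvd_iff_dvd_of_dvd_sub h3).symm

theorem zU_dvd_iff {m q : ℕ} (hm : 0 < m) :
    zU (2 * m) q ∣ m ↔ padicValNat 2 (q + 1) < padicValNat 2 (2 * m) := by
  haveI : Fact (Nat.Prime 2) := ⟨Nat.prime_two⟩
  have hb : padicValNat 2 (2 * m) = padicValNat 2 m + 1 := by
    rw [padicValNat.mul two_ne_zero hm.ne', padicValNat.self (by norm_num), add_comm]
  constructor
  · intro h
    by_contra hle
    have h1 : 2 ^ padicValNat 2 (2 * m) ∣ zU (2 * m) q := Nat.dvd_gcd pow_padicValNat_dvd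
      ((pow_dvd_pow 2 (not_lt.1 hle)).trans pow_padicValNat_dvd)
    have h2 := (padicValNat_dvd_iff_le (p := 2) hm.ne').1 (h1.trans h)
    omega
  · intro h
    by_contra hd
    obtain ⟨c, hc⟩ : zU (2 * m) q ∣ 2 * m := Nat.gcd_dvd_left _ _
    have hc2 : ¬ 2 ∣ c := by
      rintro ⟨c', rfl⟩
      exact hd ⟨c', Nat.eq_of_mul_eq_mul_left two_pos (hc.trans (by ring))⟩
    have hc0 : c ≠ 0 := by rintro rfl; simp at hc2
    have h1 : padicValNat 2 (zU (2 * m) q) = padicValNat 2 (2 * m) := by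
      conv_rhs => rw [hc, padicValNat.mul (Nat.gcd_pos_of_pos_right _ q.succ_pos).ne' hc0,
        padicValNat.eq_zero_of_not_dvd hc2, add_zero]
    have h2 := (padicValNat_dvd_iff_le (p := 2) q.succ_ne_zero).1
      (pow_padicValNat_dvd.trans (Nat.gcd_dvd_right (2 * m) (q + 1)))
    rw [h1] at h2
    exact absurd h2 (not_le.2 h)

theorem orderOf_neg_eq {q r m : ℕ} [hr : Fact r.Prime] (hr2 : r ≠ 2) (hm : 0 < m)
    (h : orderOf (q : ZMod r) = if Even m then 2 * m else m) : orderOf (-(q : ZMod r)) = 2 * m := by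
  have hne : (-1 : ZMod r) ≠ 1 := by
    intro e
    refine hr2 ((Nat.prime_dvd_prime_iff_eq hr.out Nat.prime_two).1 ((ZMod.natCast_eq_zero_iff 2 r).1 ?_))
    push_cast
    linear_combination -e
  have hpow : (q : ZMod r) ^ (2 * m) = 1 := by
    rcases Nat.even_or_odd m with hm' | hm'
    · rw [if_pos hm'] at h; rw [← h, pow_orderOf_eq_one]
    · rw [if_neg (Nat.not_even_iff_odd.2 hm')] at h; rw [mul_comm, pow_mul, ← h, pow_orderOf_eq_one, one_pow]
  have hdvd : orderOf (-(q : ZMod r)) ∣ 2 * m :=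
    orderOf_dvd_of_pow_eq_one (by rw [(even_two_mul m).neg_pow, hpow])
  set o := orderOf (-(q : ZMod r))
  have ho : (-(q : ZMod r)) ^ o = 1 := pow_orderOf_eq_one _
  rcases Nat.even_or_odd o with he | ho'
  · rw [he.neg_pow] at ho
    have h1 := orderOf_dvd_of_pow_eq_one ho
    rcases Nat.even_or_odd m with hm' | hm'
    · rw [h, if_pos hm'] at h1; exact Nat.dvd_antisymm hdvd h1
    · rw [h, if_neg (Nat.not_even_iff_odd.2 hm')] at h1
      exact Nat.dvd_antisymm hdvd ((Nat.coprime_two_left.2 hm').mul_dvd_of_dvd_of_dvd he.two_dvd h1)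
  · exfalso
    rw [ho'.neg_pow, neg_eq_iff_eq_neg] at ho
    have h1 := orderOf_dvd_of_pow_eq_one (x := (q : ZMod r)) (n := o * 2) (by rw [pow_mul, ho, neg_one_sq])
    have hom : o ∣ m := (Nat.coprime_two_right.2 ho').dvd_of_dvd_mul_left hdvd
    rcases Nat.even_or_odd m with hm' | hm'
    · rw [h, if_pos hm', mul_comm o, Nat.mul_dvd_mul_iff_left two_pos] at h1
      exact Nat.not_even_iff_odd.2 ho' (even_iff_two_dvd.2 (hm'.two_dvd.trans h1))
    · rw [h, if_neg (Nat.not_even_iff_odd.2 hm')] at h1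
      obtain rfl : o = m := Nat.dvd_antisymm hom ((Nat.coprime_two_right.2 hm').dvd_of_dvd_mul_right h1)
      have := pow_orderOf_eq_one (q : ZMod r)
      rw [h, if_neg (Nat.not_even_iff_odd.2 hm'), ho] at this
      exact hne this

theorem exists_prime {q m : ℕ} (hq : 1 < q) (hodd : Odd q) (hm : 2 ≤ m) :
    ∃ r, r.Prime ∧ r ≠ 2 ∧ r ∣ (if Even m then q ^ m + 1 else q ^ m - 1) ∧
      orderOf (q : ZMod r) = if Even m then 2 * m else m := by
  set e := if Even m then 2 * m else m with he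
  have he2 : 3 ≤ e := by
    rcases Nat.even_or_odd m with h | h
    · rw [he, if_pos h]; omega
    · rw [he, if_neg (Nat.not_even_iff_odd.2 h)]; obtain ⟨t, rfl⟩ := h; omega
  obtain ⟨r, hr⟩ := exists_isPrimitivePrimeDivisor hq (show 1 < e by omega)
    (fun h => by rw [h.1] at hodd; exact absurd hodd (by decide)) (fun h => by omega)
  haveI := Fact.mk hr.1
  have hord := (isPrimitivePrimeDivisor_iff hr.1 (by omega) (by omega)).1 hr
  refine ⟨r, hr.1, ?_, ?_, hord⟩
  · rintro rfl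
    refine hr.2.2 1 one_pos (by omega) ?_
    obtain ⟨t, rfl⟩ := hodd
    exact ⟨t, by simp⟩
  · rcases Nat.even_or_odd m with h | h
    · rw [if_pos h]
      have h1 := hr.2.1
      rw [he, if_pos h, show q ^ (2 * m) - 1 = (q ^ m + 1) * (q ^ m - 1) by
        rw [← Nat.sq_sub_sq, one_pow, ← pow_mul, mul_comm m], hr.1.dvd_mul] at h1
      exact h1.resolve_right (hr.2.2 m (by omega) (by rw [he, if_pos h]; omega))
    · rw [if_neg (Nat.not_even_iff_odd.2 h)]
      have h1 := hr.2.1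
      rwa [he, if_neg (Nat.not_even_iff_odd.2 h)] at h1

theorem main {F : Type*} [Field F] [Fintype F] {q : ℕ} (hF : Fintype.card F = q ^ 2) (hodd : Odd q)
    {n : ℕ} (hn : 4 ≤ n) (heven : Even n) :
    (∃ g : Cfsg.PSU n F q, orderOf g = if Even (n / 2) then q ^ (n / 2) + 1 else q ^ (n / 2) - 1) ↔
      padicValNat 2 (q + 1) < padicValNat 2 n := by
  classical
  letI : StarRing F := Forms59.starRingOfCard hF
  have hs : ∀ x : F, star x = x ^ q := fun x => rfl
  have hq : 1 < q := (Forms59.card_sq_facts hF).2.2.1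
  obtain ⟨m, rfl⟩ := heven.two_dvd
  rw [Nat.mul_div_cancel_left _ two_pos, ← zU_dvd_iff (by omega), ← zU_dvd_half]
  set N := if Even m then q ^ m + 1 else q ^ m - 1
  have hT : (sM (2 * m) q).natAbs = (sM m q).natAbs * N := by
    rw [sM_two_mul, Int.natAbs_mul, natAbs_factor hq]
  set M := (sM m q).natAbs
  set d := zU (2 * m) q with hd
  have hd0 : 0 < d := Nat.gcd_pos_of_pos_left _ (by omega)
  constructor
  · rintro ⟨g, hg⟩
    obtain ⟨r, hr, hr2, hrN, hrord⟩ := exists_prime hq hodd (show 2 ≤ m by omega)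
    haveI := Fact.mk hr
    have hrF : (r : F) ≠ 0 := by
      intro e
      obtain ⟨p, k, hp, hk, hcp, hqk⟩ := Unitary.exists_prime_pow hF
      haveI := hcp
      obtain rfl : p = r := (Nat.prime_dvd_prime_iff_eq hp hr).1 ((CharP.cast_eq_zero_iff F p r).1 e)
      rw [hqk, Nat.cast_pow, ZMod.natCast_self, zero_pow hk.ne', orderOf_zero] at hrord
      split_ifs at hrord <;> omega
    obtain ⟨G, hG⟩ := QuotientGroup.mk_surjective g
    have hdvd : N ∣ orderOf G := by rw [← hg, ← hG]; exact orderOf_map_dvd (QuotientGroup.mk' _) G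
    have hx : orderOf (G ^ (orderOf G / r)) = r :=
      orderOf_pow_orderOf_div (orderOf_pos G).ne' (hrN.trans hdvd)
    have h := torus_exponent hF hs (show 2 ≤ 2 * m by omega) hrF (orderOf_neg_eq hr2 (by omega) hrord)
      _ G hx ((Commute.refl G).pow_left _)
    rw [show proj G = g from hG, ← orderOf_dvd_iff_pow_eq_one, hg, hT, ← hd] at h
    obtain ⟨c, hc⟩ := h
    have hdM : d ∣ M * N := hT ▸ zU_dvd_sM (2 * m) q
    have h2 : M * N = d * (N * c) := by rw [← hc, Nat.mul_div_cancel' hdM]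
    have hN0 : 0 < N := by rw [← hg]; exact orderOf_pos g
    exact ⟨c, Nat.eq_of_mul_eq_mul_right hN0 (h2.trans (by ring))⟩
  · rintro ⟨c, hc⟩
    obtain ⟨x, hx⟩ := SUEl.exists_psu_singer hF hs (show 2 ≤ 2 * m by omega)
    rw [hT, ← hd, hc, mul_assoc, Nat.mul_div_cancel_left _ hd0] at hx
    exact exists_orderOf_eq_of_dvd x ((dvd_mul_left N c).trans hx)

end Cfsg.Agent.PSUOrder57
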