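import Cfsg.Agent.KnownSimple58.UnitaryElements
import Cfsg.Agent.Lib.NumberTheory.Zsigmondy

/-!
Special unitary elements commuting with an element of prime order `r`, where `-q` has order `n` modulo `r`:
they lie in a Coxeter torus, so their projective orders divide `|q^n - (-1)^n| / ((q+1) gcd(n,q+1))`.
-/

set_option autoImplicit false

namespace Cfsg.Agent.PSUOrder57

open Matrix Cfsg.Agent.KS58.SUDi

theorem prod_zpow {K : Type*} [Field K] {x : K} (hx : x ≠ 0) (e : ℕ → ℤ) (n : ℕ) :
    ∏ j ∈ Finset.range n, x ^ e j = x ^ (∑ j ∈ Finset.range n, e j) := by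
  induction n with
  | zero => simp
  | succ n ih => rw [Finset.prod_range_succ, Finset.sum_range_succ, ih, zpow_add₀ hx]

variable {F : Type*} [Field F] [Fintype F] [StarRing F] {n q r : ℕ}

theorem torus_exponent (hK : Fintype.card F = q ^ 2) (hs : ∀ x : F, star x = x ^ q) (hn : 2 ≤ n)
    [hr : Fact r.Prime] (hrF : (r : F) ≠ 0) (hord : orderOf (-(q : ZMod r)) = n)
    (x g : Cfsg.SU n F q) (hx : orderOf x = r) (hc : Commute x g) :
    proj g ^ ((sM n q).natAbs / zU n q) = 1 := by
  classical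
  obtain ⟨p, k, hp, -, hcp, hqk⟩ := Unitary.exists_prime_pow hK
  haveI := Fact.mk hp
  haveI := hcp
  let K := AlgebraicClosure F
  let ι : F →+* K := algebraMap F K
  haveI : CharP K p := charP_of_injective_algebraMap ι.injective p
  let φ : K →+* K := iterateFrobenius K p k
  have hφ : ∀ y : K, φ y = y ^ q := fun y => by rw [hqk]; rfl
  let X : Matrix (Fin n) (Fin n) K := (mat x).map ι
  let G : Matrix (Fin n) (Fin n) K := (mat g).map ι
  have hunit : ∀ h : Cfsg.SU n F q, ((mat h).map ι)ᵀ * ((mat h).map ι).map φ = 1 := by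
    intro h
    have h1 := congrArg (fun A : Matrix (Fin n) (Fin n) F => Aᵀ.map ι) (adj_mat hs h)
    simp only [transpose_mul, transpose_one, Matrix.map_mul, Matrix.map_one _ ι.map_zero ι.map_one] at h1
    have e : ((mat h)ᴴ)ᵀ.map ι = ((mat h).map ι).map φ := by
      ext i j
      simp [hφ, hs, ← map_pow]
    rwa [e] at h1
  -- an eigenvector yields one of the transpose
  have hflip : ∀ (h : Cfsg.SU n F q) (a : K) (v : Fin n → K), a ≠ 0 → (mat h).map ι *ᵥ v = a • v →
      ((mat h).map ι)ᵀ *ᵥ (fun i => φ (v i)) = (φ a)⁻¹ • fun i => φ (v i) := by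
    intro h a v ha hv
    have h1 : ((mat h).map ι).map φ *ᵥ (fun i => φ (v i)) = φ a • fun i => φ (v i) := by
      funext i
      rw [show (fun i => φ (v i)) = φ ∘ v from rfl, ← RingHom.map_mulVec, hv]
      simp [map_mul]
    have h2 := congrArg (fun w => ((mat h).map ι)ᵀ *ᵥ w) h1
    rw [Matrix.mulVec_mulVec, hunit, Matrix.one_mulVec, Matrix.mulVec_smul] at h2
    rw [eq_inv_smul_iff₀ (by simpa using ha)]
    exact h2.symm
  -- an eigenvalue of order `r`
  have hX1 : X ^ r = 1 := by
    show (mat x).map ι ^ r = 1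
    rw [← Matrix.map_pow, ← mat_pow, ← hx, pow_orderOf_eq_one]
    exact Matrix.map_one _ ι.map_zero ι.map_one
  obtain ⟨α, v₀, hv₀, hXv₀, hαS⟩ : ∃ α : K, ∃ v : Fin n → K, v ≠ 0 ∧ X *ᵥ v = α • v ∧
      ∑ i ∈ Finset.range r, α ^ i = 0 := by
    have hne : X - 1 ≠ 0 := by
      intro e
      have e1 : mat x = 1 := Matrix.map_injective ι.injective
        ((sub_eq_zero.1 e).trans (Matrix.map_one _ ι.map_zero ι.map_one).symm)
      have : x = 1 := mat_injective e1
      rw [this, orderOf_one] at hx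
      exact hr.out.one_lt.ne hx
    haveI : Nonempty (Fin n) := ⟨⟨0, by omega⟩⟩
    have hsing : ¬ IsUnit (∑ i ∈ Finset.range r, X ^ i) := fun hu => hne <| by
      have := mul_geom_sum X r
      rw [hX1, sub_self] at this
      exact hu.mul_left_eq_zero.1 this
    have h0 : (0 : K) ∈ spectrum K (Polynomial.aeval X (∑ i ∈ Finset.range r, (Polynomial.X : Polynomial K) ^ i)) := by
      rw [spectrum.zero_mem_iff, map_sum]
      simpa using hsing
    rw [spectrum.map_polynomial_aeval_of_degree_pos _ _ (by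
      rw [← Polynomial.cyclotomic_prime]
      exact Polynomial.degree_cyclotomic_pos r K hr.out.pos)] at h0
    obtain ⟨α, hα, he⟩ := h0
    rw [spectrum.mem_iff, Matrix.isUnit_iff_isUnit_det, isUnit_iff_ne_zero, not_not,
      ← Matrix.exists_mulVec_eq_zero_iff] at hα
    obtain ⟨v, hv, hvα⟩ := hα
    refine ⟨α, v, hv, ?_, by simpa [Polynomial.eval_finsetSum] using he⟩
    rw [Matrix.sub_mulVec, Algebra.algebraMap_eq_smul_one, Matrix.smul_mulVec, Matrix.one_mulVec, sub_eq_zero] at hvα
    exact hvα.symm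
  have hα1 : α ≠ 1 := by
    rintro rfl
    simp only [one_pow, Finset.sum_const, Finset.card_range, nsmul_eq_mul, mul_one] at hαS
    exact hrF (ι.injective (by rw [map_natCast, hαS, map_zero]))
  have hαr : α ^ r = 1 := by rw [← sub_eq_zero, ← geom_sum_mul, hαS, zero_mul]
  have hprim : IsPrimitiveRoot α r := hαr |> fun h => by
    rw [← orderOf_eq_prime h hα1]; exact IsPrimitiveRoot.orderOf α
  have hα0 : α ≠ 0 := hprim.ne_zero hr.out.ne_zero
  let a : ℕ → K := fun j => α ^ ((-(q : ℤ)) ^ j)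
  have ha0 : ∀ j, a j ≠ 0 := fun j => zpow_ne_zero _ hα0
  have hnext : ∀ (y : K) (j : ℕ), y ^ ((-(q : ℤ)) ^ (j + 1)) = (φ (y ^ ((-(q : ℤ)) ^ j)))⁻¹ := by
    intro y j
    rw [hφ, ← zpow_natCast, ← _root_.zpow_mul, ← _root_.zpow_neg]
    congr 1
    ring
  have hinj : ∀ i j, i < n → j < n → a i = a j → i = j := by
    intro i j hi hj e
    have h1 : α ^ ((-(q : ℤ)) ^ i - (-(q : ℤ)) ^ j) = 1 := by
      rw [zpow_sub₀ hα0, show α ^ ((-(q : ℤ)) ^ i) = α ^ ((-(q : ℤ)) ^ j) from e, div_self (zpow_ne_zero _ hα0)]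
    have h2 := (hprim.zpow_eq_one_iff_dvd _).1 h1
    rw [← ZMod.intCast_zmod_eq_zero_iff_dvd] at h2
    push_cast at h2
    exact pow_injOn_Iio_orderOf (x := -(q : ZMod r)) (Set.mem_Iio.2 (hord.symm ▸ hi))
      (Set.mem_Iio.2 (hord.symm ▸ hj)) (sub_eq_zero.1 h2)
  have hev : ∀ j, ∃ v : Fin n → K, v ≠ 0 ∧ X *ᵥ v = a j • v := by
    intro j
    induction j with
    | zero => exact ⟨v₀, hv₀, by simpa [a] using hXv₀⟩
    | succ j ih =>
      obtain ⟨v, hv, hXv⟩ := ih
      have h1 := hflip x (a j) v (ha0 j) hXv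
      have h2 : (Xᵀ - a (j + 1) • (1 : Matrix (Fin n) (Fin n) K)).det = 0 := by
        rw [← Matrix.exists_mulVec_eq_zero_iff]
        refine ⟨fun i => φ (v i), fun e => hv (funext fun i => φ.injective (by rw [congrFun e i]; simp)), ?_⟩
        rw [Matrix.sub_mulVec, Matrix.smul_mulVec, Matrix.one_mulVec, h1, sub_eq_zero]
        simp only [a, hnext]
      rw [← Matrix.det_transpose, Matrix.transpose_sub, Matrix.transpose_transpose, Matrix.transpose_smul,
        Matrix.transpose_one, ← Matrix.exists_mulVec_eq_zero_iff] at h2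
      obtain ⟨w, hw, hXw⟩ := h2
      refine ⟨w, hw, ?_⟩
      rwa [Matrix.sub_mulVec, Matrix.smul_mulVec, Matrix.one_mulVec, sub_eq_zero] at hXw
  choose v hv hXv using hev
  have hli : LinearIndependent K (fun i : Fin n => v i) :=
    Module.End.eigenvectors_linearIndependent' (Matrix.toLin' X) (fun i : Fin n => a i)
      (fun i j e => Fin.ext (hinj i j i.2 j.2 e)) _
      (fun i => ⟨Module.End.mem_eigenspace_iff.2 (by rw [Matrix.toLin'_apply, hXv]), hv i⟩)
  haveI : Nonempty (Fin n) := ⟨⟨0, by omega⟩⟩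
  let b : Module.Basis (Fin n) K (Fin n → K) :=
    basisOfLinearIndependentOfCardEqFinrank hli (by rw [Module.finrank_fin_fun, Fintype.card_fin])
  have hb : ∀ i : Fin n, b i = v i := fun i => by simp [b]
  -- `g` is diagonal in this basis
  have hGX : G * X = X * G := by
    show (mat g).map ι * (mat x).map ι = (mat x).map ι * (mat g).map ι
    rw [← Matrix.map_mul, ← Matrix.map_mul]
    exact congrArg (fun A => A.map ι) (congrArg mat hc.eq.symm)
  have hdiag : ∀ j : Fin n, ∃ β : K, G *ᵥ v j = β • v j := by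
    intro j
    refine ⟨b.repr (G *ᵥ v j) j, ?_⟩
    have hw : X *ᵥ (G *ᵥ v j) = a j • (G *ᵥ v j) := by
      rw [Matrix.mulVec_mulVec, ← hGX, ← Matrix.mulVec_mulVec, hXv, Matrix.mulVec_smul]
    have hrepr : ∀ (w : Fin n → K) (i : Fin n), b.repr (X *ᵥ w) i = a i * b.repr w i := by
      intro w i
      conv_lhs => rw [← b.sum_repr w]
      have hbX : ∀ c : Fin n, X *ᵥ b c = a c • b c := fun c => by rw [hb, hXv]
      simp only [Matrix.mulVec_sum, Matrix.mulVec_smul, hbX, map_sum, map_smul, Module.Basis.repr_self,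
        Finsupp.coe_finsetSum, Finset.sum_apply, Finsupp.smul_apply, smul_eq_mul, Finsupp.single_apply]
      rw [Finset.sum_eq_single i (fun c _ hci => by rw [if_neg hci]; simp) (fun h => absurd (Finset.mem_univ i) h)]
      simp [mul_comm]
    conv_lhs => rw [← b.sum_repr (G *ᵥ v j)]
    rw [Finset.sum_eq_single j, hb]
    · intro i _ hij
      have h1 := hrepr (G *ᵥ v j) i
      rw [hw, map_smul, Finsupp.smul_apply, smul_eq_mul] at h1
      have h2 : b.repr (G *ᵥ v j) i = 0 := by
        rcases mul_eq_mul_right_iff.1 h1 with h | h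
        · exact absurd (Fin.ext (hinj _ _ i.2 j.2 h.symm)) hij
        · exact h
      rw [h2, zero_smul]
    · exact fun h => absurd (Finset.mem_univ j) h
  choose β hβ using hdiag
  have hGu : G.det = 1 := by
    show ((mat g).map ι).det = 1
    show (ι.mapMatrix (mat g)).det = 1
    rw [← RingHom.map_det, show (mat g).det = 1 from g.1.2, map_one]
  have hβ0 : ∀ j, β j ≠ 0 := by
    intro j e
    refine hv j (Matrix.eq_zero_of_mulVec_eq_zero (M := G) (by rw [hGu]; exact one_ne_zero) ?_)
    rw [hβ, e, zero_smul]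
  set β₀ := β ⟨0, by omega⟩
  have hβj : ∀ j (hj : j < n), β ⟨j, hj⟩ = β₀ ^ ((-(q : ℤ)) ^ j) := by
    intro j
    induction j with
    | zero => intro hj; simp [β₀]
    | succ j ih =>
      intro hj
      have hj' : j < n := by omega
      set w : Fin n → K := fun i => φ (v j i) with hw
      have hXw : Xᵀ *ᵥ w = a (j + 1) • w := by
        simp only [a, hnext]
        exact hflip x (a j) _ (ha0 j) (hXv j)
      have hGw : Gᵀ *ᵥ w = (φ (β ⟨j, hj'⟩))⁻¹ • w := hflip g _ _ (hβ0 _) (hβ ⟨j, hj'⟩)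
      have hpair : ∀ (M : Matrix (Fin n) (Fin n) K) (u : Fin n → K), (Mᵀ *ᵥ w) ⬝ᵥ u = w ⬝ᵥ (M *ᵥ u) := by
        intro M u
        rw [Matrix.mulVec_transpose, ← Matrix.dotProduct_mulVec]
      have hzero : ∀ i : Fin n, (i : ℕ) ≠ j + 1 → w ⬝ᵥ v i = 0 := by
        intro i hi
        have h1 := hpair X (v i)
        rw [hXw, hXv, smul_dotProduct, dotProduct_smul, smul_eq_mul, smul_eq_mul] at h1
        rcases mul_eq_mul_right_iff.1 h1 with h | h
        · exact absurd (hinj _ _ i.2 hj h.symm) hi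
        · exact h
      have hne : w ⬝ᵥ v (j + 1) ≠ 0 := by
        intro h0
        refine hv j (funext fun i => φ.injective ?_)
        have h1 : w ⬝ᵥ Pi.single i 1 = 0 := by
          rw [← b.sum_repr (Pi.single i 1), dotProduct_sum]
          refine Finset.sum_eq_zero fun c _ => ?_
          rw [dotProduct_smul, hb]
          by_cases hc : (c : ℕ) = j + 1
          · rw [hc, h0, smul_zero]
          · rw [hzero c hc, smul_zero]
        rw [dotProduct_single, mul_one] at h1
        simpa [hw] using h1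
      have h1 := hpair G (v (j + 1))
      rw [hGw, hβ ⟨j + 1, hj⟩, smul_dotProduct, dotProduct_smul, smul_eq_mul, smul_eq_mul] at h1
      rw [← mul_right_cancel₀ hne h1, ih hj', hnext]
  have hT : β₀ ^ sM n q = 1 := by
    have hdet : G.det = ∏ j : Fin n, β j := by
      rw [← LinearMap.det_toLin', ← LinearMap.det_toMatrix b,
        show LinearMap.toMatrix b b (Matrix.toLin' G) = Matrix.diagonal β from ?_, Matrix.det_diagonal]
      ext i c
      rw [LinearMap.toMatrix_apply, Matrix.toLin'_apply, hb, hβ, ← hb, map_smul, Module.Basis.repr_self,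
        Matrix.diagonal_apply]
      by_cases h : i = c
      · subst h; simp
      · simp [h, Ne.symm h]
    rw [sM, ← prod_zpow (hβ0 _), ← Fin.prod_univ_eq_prod_range (fun j => β₀ ^ ((-(q : ℤ)) ^ j)) n, ← hGu, hdet]
    exact Finset.prod_congr rfl fun j _ => (hβj j j.2).symm
  set N0 := (sM n q).natAbs with hN0
  set d := zU n q with hd
  have hβT : β₀ ^ N0 = 1 := by
    rw [← zpow_natCast]
    rcases Int.natAbs_eq (sM n q) with h | h
    · rw [← h, hT]
    · rw [show ((sM n q).natAbs : ℤ) = -(sM n q) by omega, _root_.zpow_neg, hT, inv_one]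
  set c := β₀ ^ (N0 / d) with hcdef
  have hcq : c ^ (q + 1) = 1 := by
    obtain ⟨e, he⟩ : d ∣ q + 1 := Nat.gcd_dvd_right n (q + 1)
    rw [he, pow_mul, hcdef, ← pow_mul β₀, Nat.div_mul_cancel (zU_dvd_sM n q), hβT, one_pow]
  have hcj : ∀ j : ℕ, c ^ ((-(q : ℤ)) ^ j) = c := by
    intro j
    induction j with
    | zero => simp
    | succ j ih =>
      rw [hnext, ih, hφ]
      exact inv_eq_of_mul_eq_one_right (by rw [← pow_succ, hcq])
  have hGv : ∀ (e : ℕ) (j : Fin n), G ^ e *ᵥ v j = β j ^ e • v j := by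
    intro e j
    induction e with
    | zero => simp
    | succ e ih => rw [pow_succ, ← Matrix.mulVec_mulVec, hβ, Matrix.mulVec_smul, ih, smul_smul, pow_succ']
  have hGe : G ^ (N0 / d) = c • 1 := by
    refine Matrix.toLin'.injective (b.ext fun j => ?_)
    rw [Matrix.toLin'_apply, Matrix.toLin'_apply, hb, hGv, Matrix.smul_mulVec, Matrix.one_mulVec, hβj j j.2]
    congr 1
    rw [← zpow_natCast, ← _root_.zpow_mul, mul_comm, _root_.zpow_mul, zpow_natCast, ← hcdef, hcj]
  rw [← map_pow, QuotientGroup.mk'_apply, QuotientGroup.eq_one_iff]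
  set i₀ : Fin n := ⟨0, by omega⟩
  refine center_of_scalar hK hn _ (c := mat (g ^ (N0 / d)) i₀ i₀) (Matrix.map_injective ι.injective ?_)
  have h1 : (mat (g ^ (N0 / d))).map ι = c • 1 := by rw [mat_pow, Matrix.map_pow]; exact hGe
  have h2 := congrFun (congrFun h1 i₀) i₀
  simp only [Matrix.map_apply, Matrix.smul_apply, Matrix.one_apply_eq, smul_eq_mul, mul_one] at h2
  dsimp only
  rw [h1, ← h2]
  ext i j
  rcases eq_or_ne i j with rfl | h <;> simp [Matrix.one_apply, *]

end Cfsg.Agent.PSUOrder57
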